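import Cfsg.Agent.EqLemmas

/-!
# Finite commutative rings with an involution moving a unit difference

For a finite commutative ring `R`, an involutive endomorphism `τ` and `z` with `τ z - z` a unit:
* `exists_hilbert90` : `τ u * u = 1` gives a unit `x` with `τ x = u * x`
* `exists_norm_eq`   : `τ r = r`, `r` a unit, gives a unit `x` with `τ x * x = r`
-/

set_option autoImplicit false

namespace Cfsg.Agent.InvolAlg

variable {R : Type*} [CommRing R] [Finite R] (τ : R →+* R)

theorem exists_hilbert90 (hτ : ∀ a, τ (τ a) = a) (z : R) (hz : IsUnit (τ z - z))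
    (u : R) (hu : τ u * u = 1) : ∃ x : R, IsUnit x ∧ τ x = u * x := by
  classical
  haveI : Fintype (MaximalSpectrum R) := Fintype.ofFinite _
  set c := τ u with hc
  have hτc : τ c = u := hτ u
  have hcu : IsUnit c := IsUnit.of_mul_eq_one u hu
  let e := Fintype.equivFin (MaximalSpectrum R)
  -- the conjugate maximal ideal
  have hsurj : Function.Surjective τ := fun a => ⟨τ a, hτ a⟩
  let cm : MaximalSpectrum R → MaximalSpectrum R := fun m =>
    ⟨m.asIdeal.comap τ, by haveI := m.isMaximal; exact Ideal.comap_isMaximal_of_surjective τ hsurj⟩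
  have hcm : ∀ m, cm (cm m) = m := fun m => MaximalSpectrum.ext (by ext a; simp [cm, hτ])
  let t : MaximalSpectrum R → R := fun m =>
    if cm m = m then (if (1 + c) ∈ m.asIdeal then z else 1) else (if e m < e (cm m) then 1 else 0)
  have hcop : Pairwise fun m m' : MaximalSpectrum R => IsCoprime m.asIdeal m'.asIdeal := fun m m' h =>
    Ideal.isCoprime_iff_sup_eq.mpr
      (m.isMaximal.coprime_of_ne m'.isMaximal (fun he => h (MaximalSpectrum.ext he)))
  obtain ⟨y, hy⟩ := Ideal.exists_forall_sub_mem_ideal hcop t
  refine ⟨y + τ y * c, ?_, ?_⟩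
  · by_contra hnu
    obtain ⟨M, hM, hmem⟩ := exists_max_ideal_of_mem_nonunits hnu
    haveI := hM
    let m : MaximalSpectrum R := ⟨M, hM⟩
    have h1 : y - t m ∈ M := hy m
    have h2 : τ y - τ (t (cm m)) ∈ M := by
      have := hy (cm m)
      rw [← map_sub]
      exact this
    have h3 : t m + τ (t (cm m)) * c ∈ M := by
      have h4 := M.sub_mem hmem (M.add_mem h1 (M.mul_mem_right c h2))
      have he : y + τ y * c - (y - t m + (τ y - τ (t (cm m))) * c) = t m + τ (t (cm m)) * c := by ring
      rwa [he] at h4
    have hone : (1 : R) ∉ M := fun h => hM.ne_top ((Ideal.eq_top_iff_one M).mpr h)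
    by_cases hfix : cm m = m
    · rw [hfix] at h3
      simp only [t, hfix, if_true] at h3
      by_cases h1c : (1 + c) ∈ m.asIdeal
      · simp only [h1c, if_true] at h3
        have h5 : (τ z - z) * c ∈ M := by
          have := M.sub_mem h3 (M.mul_mem_left z h1c)
          have he : z + τ z * c - z * (1 + c) = (τ z - z) * c := by ring
          rwa [he] at this
        exact hM.ne_top (Ideal.eq_top_of_isUnit_mem _ h5 (hz.mul hcu))
      · simp only [h1c, if_false, map_one, one_mul] at h3
        exact h1c h3
    · have hfix' : ¬ cm (cm m) = cm m := by rw [hcm]; exact Ne.symm hfix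
      have hne : e m ≠ e (cm m) := fun h => hfix (e.injective h).symm
      have e1 : t m = if e m < e (cm m) then 1 else 0 := if_neg hfix
      have e2 : t (cm m) = if e (cm m) < e m then 1 else 0 := by
        show (if cm (cm m) = cm m then _ else _) = _
        rw [if_neg hfix', hcm]
      rw [e1, e2] at h3
      rcases lt_or_gt_of_ne hne with h | h
      · simp only [h, if_true, lt_asymm h, if_false, map_zero, zero_mul, add_zero] at h3
        exact hone h3
      · simp only [h, if_true, lt_asymm h, if_false, map_one, one_mul, zero_add] at h3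
        exact hM.ne_top (Ideal.eq_top_of_isUnit_mem _ h3 hcu)
  · rw [map_add, map_mul, hτ, hτc]
    linear_combination -(τ y) * hu

theorem exists_norm_eq (hτ : ∀ a, τ (τ a) = a) (z : R) (hz : IsUnit (τ z - z))
    (r : R) (hr : IsUnit r) (hfix : τ r = r) : ∃ x : R, IsUnit x ∧ τ x * x = r := by
  classical
  let T : Rˣ →* Rˣ := Units.map (τ : R →* R)
  let N : Rˣ →* Rˣ := T * MonoidHom.id Rˣ
  let D : Rˣ →* Rˣ := T / MonoidHom.id Rˣ
  have hTT : ∀ x, T (T x) = x := fun x => Units.ext (hτ _)
  have hsub : N.range ≤ D.ker := by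
    rintro _ ⟨x, rfl⟩
    rw [MonoidHom.mem_ker]
    show T (T x * x) / (T x * x) = 1
    rw [map_mul, hTT, mul_comm, div_self']
  have hkN : N.ker = D.range := by
    ext v
    constructor
    · intro hv
      have hv' : τ (v : R) * (v : R) = 1 := congrArg Units.val (MonoidHom.mem_ker.mp hv)
      obtain ⟨x, hx, hxe⟩ := exists_hilbert90 τ hτ z hz (v : R) hv'
      refine ⟨hx.unit, ?_⟩
      show T hx.unit / hx.unit = v
      rw [div_eq_iff_eq_mul]
      exact Units.ext hxe
    · rintro ⟨x, rfl⟩
      rw [MonoidHom.mem_ker]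
      show T (T x / x) * (T x / x) = 1
      rw [map_div, hTT, div_mul_div_cancel, div_self']
  have hcard : Nat.card N.range = Nat.card D.ker := by
    have h1 : Nat.card N.ker * Nat.card N.range = Nat.card Rˣ := by
      rw [← Subgroup.index_ker, Subgroup.card_mul_index]
    have h2 : Nat.card D.ker * Nat.card D.range = Nat.card Rˣ := by
      rw [← Subgroup.index_ker, Subgroup.card_mul_index]
    rw [hkN] at h1
    have hpos : 0 < Nat.card D.range := Nat.card_pos
    apply Nat.eq_of_mul_eq_mul_left hpos
    rw [h1, ← h2, mul_comm]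
  have heq : N.range = D.ker := Subgroup.eq_of_le_of_card_ge hsub hcard.ge
  have hmem : hr.unit ∈ D.ker := by
    rw [MonoidHom.mem_ker]
    show T hr.unit / hr.unit = 1
    rw [div_eq_one]
    exact Units.ext hfix
  obtain ⟨x, hx⟩ := heq ▸ hmem
  exact ⟨x, x.isUnit, congrArg Units.val hx⟩

end Cfsg.Agent.InvolAlg
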